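import Cfsg.Agent.Lib.Char.DegDvd
import Cfsg.Agent.Lib.CharDeg.ItoMichlerSolv
import Cfsg.Agent.Lib.Char.Linear
import Cfsg.Agent.Lib.Char.Degree
import Mathlib.Tactic

/-!
# Sums of squares of `p'`-degrees

For `N ≤ G` of index prime to `p` and a surjection `π : N → Q` all of whose irreducible characters
have degree prime to `p`, the sum of the squares of the `p'`-degrees of `G` is at least `|Q|`;
in case of equality each irreducible character of `Q` is the restriction of one of `G`.
-/

set_option autoImplicit false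
set_option linter.unusedSectionVars false

namespace Cfsg.Agent.Lib.OddSq

open Cfsg Module Finset
open Cfsg.Agent.Lib.Char.Basic Cfsg.Agent.Lib.Char.Ortho Cfsg.Agent.Lib.Char.Complete
open Cfsg.Agent.Lib.Char.Degree Cfsg.Agent.Lib.Char.Clifford Cfsg.Agent.Lib.Char.Induced
open Cfsg.Agent.Lib.Char.Linear Cfsg.Agent.Lib.Char.IndRep
open scoped Classical ComplexConjugate

universe u

/-- A choice of a finite type of irreducible characters. -/
@[reducible] noncomputable def instFinIrr (G : Type*) [Group G] [Finite G] : Fintype (IrrCharacter G) :=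
  have := finite_irrCharacter (G := G)
  Fintype.ofFinite _

attribute [local instance] instFinIrr

/-- The multiplicity as a natural number. -/
noncomputable def mult {H : Type*} [Group H] [Fintype H] (φ θ : H → ℂ) : ℕ :=
  ⌊(classInner φ θ).re⌋₊

theorem mult_coe {H : Type*} [Group H] [Fintype H] {φ θ : H → ℂ} (hφ : IsCharacter H φ)
    (hθ : IsCharacter H θ) : (mult φ θ : ℂ) = classInner φ θ := by
  obtain ⟨n, hn⟩ := exists_nat_classInner hφ hθ
  simp [mult, hn]

theorem mult_ne_zero_iff {H : Type*} [Group H] [Fintype H] {φ θ : H → ℂ} (hφ : IsCharacter H φ)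
    (hθ : IsCharacter H θ) : mult φ θ ≠ 0 ↔ classInner φ θ ≠ 0 := by
  rw [← mult_coe hφ hθ]
  simp

section Expansion

variable {H : Type*} [Group H] [Fintype H]

/-- Expansion of the values of a character. -/
theorem val_eq_sum_mult {φ : H → ℂ} (hφ : IsCharacter H φ) (x : H) :
    φ x = ∑ β : IrrCharacter H, (mult φ (β : H → ℂ) : ℂ) * (β : H → ℂ) x := by
  have h := classFunction_eq_sum (isClassFunction_of_isCharacter hφ)
  have h2 := congrFun h x
  rw [Finset.sum_apply] at h2
  rw [h2]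
  refine Finset.sum_congr rfl fun β _ => ?_
  rw [mult_coe hφ (isCharacter_of_isIrrCharacter β.2)]
  rfl

/-- The degree of a character in terms of multiplicities. -/
theorem deg_eq_sum_mult {φ : H → ℂ} (hφ : IsCharacter H φ) :
    charDegree φ = ∑ β : IrrCharacter H, mult φ (β : H → ℂ) * charDegree (β : H → ℂ) := by
  have h := val_eq_sum_mult hφ 1
  rw [← charDegree_natCast hφ] at h
  have h2 : ∀ β : IrrCharacter H, (β : H → ℂ) 1 = (charDegree (β : H → ℂ) : ℂ) := fun β =>
    (charDegree_natCast (isCharacter_of_isIrrCharacter β.2)).symm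
  simp only [h2] at h
  exact_mod_cast h

end Expansion

section Main

variable {G : Type*} [Group G] [Fintype G] (p : ℕ)

/-- The irreducible characters of degree prime to `p`. -/
noncomputable def odd (G : Type*) [Group G] [Finite G] (p : ℕ) : Finset (IrrCharacter G) :=
  Finset.univ.filter fun χ => ¬ p ∣ charDegree (χ : G → ℂ)

theorem mem_odd {χ : IrrCharacter G} : χ ∈ odd G p ↔ ¬ p ∣ charDegree (χ : G → ℂ) := by
  simp [odd]

/-- The sum of the squares of the `p'`-degrees. -/
noncomputable def sq (G : Type*) [Group G] [Finite G] (p : ℕ) : ℕ :=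
  ∑ χ ∈ odd G p, charDegree (χ : G → ℂ) ^ 2

theorem finsum_eq_sq (G : Type*) [Group G] [Finite G] (p : ℕ) :
    (∑ᶠ χ : {χ : IrrCharacter G // ¬ p ∣ charDegree (χ : G → ℂ)}, charDegree (χ.1 : G → ℂ) ^ 2)
      = sq G p := by
  classical
  rw [finsum_eq_sum_of_fintype, sq, odd]
  exact Finset.sum_subtype (Finset.univ.filter fun χ : IrrCharacter G => ¬ p ∣ charDegree (χ : G → ℂ))
    (by simp) (fun χ : IrrCharacter G => charDegree (χ : G → ℂ) ^ 2) |>.symm

variable {N : Subgroup G} {Q : Type*} [Group Q] [Fintype Q]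

/-- The inflation of an irreducible character of `Q` to `N`. -/
noncomputable def infl (π : N →* Q) (hπ : Function.Surjective π) (ψ : IrrCharacter Q) :
    IrrCharacter N :=
  ⟨(ψ : Q → ℂ) ∘ π, isIrrCharacter_comp π hπ ψ.2⟩

theorem infl_injective (π : N →* Q) (hπ : Function.Surjective π) :
    Function.Injective (infl π hπ) := by
  intro a b h
  apply Subtype.ext
  funext q
  obtain ⟨n, rfl⟩ := hπ q
  have := congrArg (fun f : IrrCharacter N => (f : N → ℂ) n) h
  exact this

theorem charDegree_infl (π : N →* Q) (hπ : Function.Surjective π) (ψ : IrrCharacter Q) :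
    charDegree ((infl π hπ ψ : IrrCharacter N) : N → ℂ) = charDegree (ψ : Q → ℂ) := by
  apply charDegree_eq_of_eq_natCast
  change (ψ : Q → ℂ) (π 1) = _
  rw [map_one, charDegree_natCast (isCharacter_of_isIrrCharacter ψ.2)]

/-- The restriction of a character of `G` to `N`. -/
abbrev res (N : Subgroup G) (χ : G → ℂ) : N → ℂ := fun n => χ n

/-- The multiplicity of the inflation of `ψ` in `χ`. -/
noncomputable def M (π : N →* Q) (hπ : Function.Surjective π) (χ : IrrCharacter G)
    (ψ : IrrCharacter Q) : ℕ :=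
  mult (res N (χ : G → ℂ)) ((infl π hπ ψ : IrrCharacter N) : N → ℂ)

theorem isCharacter_res (χ : IrrCharacter G) : IsCharacter N (res N (χ : G → ℂ)) :=
  isCharacter_restrict N (isCharacter_of_isIrrCharacter χ.2)

/-- The part of the degree of `χ` carried by the inflations. -/
theorem sum_M_le (π : N →* Q) (hπ : Function.Surjective π) (χ : IrrCharacter G) :
    ∑ ψ : IrrCharacter Q, M π hπ χ ψ * charDegree (ψ : Q → ℂ) ≤ charDegree (χ : G → ℂ) := by
  have h1 : charDegree (χ : G → ℂ) = charDegree (res N (χ : G → ℂ)) := rfl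
  rw [h1, deg_eq_sum_mult (isCharacter_res χ)]
  have h2 : ∑ ψ : IrrCharacter Q, M π hπ χ ψ * charDegree (ψ : Q → ℂ) =
      ∑ β ∈ Finset.univ.image (infl π hπ), mult (res N (χ : G → ℂ)) (β : N → ℂ) *
        charDegree (β : N → ℂ) := by
    rw [Finset.sum_image (fun a _ b _ h => infl_injective π hπ h)]
    refine Finset.sum_congr rfl fun ψ _ => ?_
    rw [charDegree_infl]
    rfl
  rw [h2]
  exact Finset.sum_le_sum_of_subset (Finset.subset_univ _)

/-- A character of `Q` of degree prime to `p`, with `N` of index prime to `p`, is seen by some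
`p'`-degree character of `G`. -/
theorem le_sum_M (hp : p.Prime) (π : N →* Q) (hπ : Function.Surjective π) (hidx : ¬ p ∣ N.index)
    (ψ : IrrCharacter Q) (hψ : ¬ p ∣ charDegree (ψ : Q → ℂ)) :
    charDegree (ψ : Q → ℂ) ≤ ∑ χ ∈ odd G p, charDegree (χ : G → ℂ) * M π hπ χ ψ := by
  classical
  let β : IrrCharacter N := infl π hπ ψ
  have hβc : IsCharacter N (β : N → ℂ) := isCharacter_of_isIrrCharacter β.2
  have hind : IsCharacter G (indFun N (β : N → ℂ)) := isCharacter_indFun N hβc
  have hdeg : charDegree (indFun N (β : N → ℂ)) = N.index * charDegree (ψ : Q → ℂ) := by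
    apply charDegree_eq_of_eq_natCast
    rw [indFun_one, ← charDegree_natCast hβc, charDegree_infl]
    push_cast
    rfl
  have hexp := deg_eq_sum_mult hind
  rw [hdeg] at hexp
  -- some `χ` of degree prime to `p` occurs
  have hex : ∃ χ ∈ odd G p, mult (indFun N (β : N → ℂ)) (χ : G → ℂ) ≠ 0 := by
    by_contra hcon
    push Not at hcon
    have hd : p ∣ N.index * charDegree (ψ : Q → ℂ) := by
      rw [hexp]
      refine Finset.dvd_sum fun χ _ => ?_
      by_cases hχ : χ ∈ odd G p
      · rw [hcon χ hχ, zero_mul]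
        exact dvd_zero _
      · have : p ∣ charDegree (χ : G → ℂ) := by
          by_contra h
          exact hχ ((mem_odd p).mpr h)
        exact Dvd.dvd.mul_left this _
    rcases (Nat.Prime.dvd_mul hp).mp hd with h | h
    · exact hidx h
    · exact hψ h
  obtain ⟨χ, hχT, hχne⟩ := hex
  have hχc := isCharacter_of_isIrrCharacter χ.2
  have hne : classInner (indFun N (β : N → ℂ)) (χ : G → ℂ) ≠ 0 :=
    (mult_ne_zero_iff hind hχc).mp hχne
  rw [classInner_indFun_left N _ _ (isClassFunction_of_isCharacter hχc)] at hne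
  have hne2 : classInner (res N (χ : G → ℂ)) (β : N → ℂ) ≠ 0 := classInner_ne_zero_comm hne
  have hM : M π hπ χ ψ ≠ 0 := (mult_ne_zero_iff (isCharacter_res χ) hβc).mpr hne2
  have hle : charDegree (ψ : Q → ℂ) ≤ charDegree (χ : G → ℂ) := by
    have h := deg_le_of_constituent (isCharacter_res χ) β.2 hne2
      (a := charDegree (χ : G → ℂ)) (b := charDegree (ψ : Q → ℂ))
      (charDegree_natCast hχc).symm
      (by rw [← charDegree_infl π hπ ψ]; exact (charDegree_natCast hβc).symm)
    exact h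
  calc charDegree (ψ : Q → ℂ) ≤ charDegree (χ : G → ℂ) * M π hπ χ ψ :=
        le_trans hle (Nat.le_mul_of_pos_right _ (Nat.pos_of_ne_zero hM))
    _ ≤ _ := Finset.single_le_sum (f := fun χ => charDegree ((χ : IrrCharacter G) : G → ℂ) * M π hπ χ ψ)
        (fun _ _ => Nat.zero_le _) hχT

/-- Interchanging the sums. -/
theorem sum_swap (π : N →* Q) (hπ : Function.Surjective π) :
    ∑ ψ : IrrCharacter Q, charDegree (ψ : Q → ℂ) *
        ∑ χ ∈ odd G p, charDegree (χ : G → ℂ) * M π hπ χ ψ =
      ∑ χ ∈ odd G p, charDegree (χ : G → ℂ) *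
        ∑ ψ : IrrCharacter Q, M π hπ χ ψ * charDegree (ψ : Q → ℂ) := by
  simp only [Finset.mul_sum]
  rw [Finset.sum_comm]
  refine Finset.sum_congr rfl fun χ _ => Finset.sum_congr rfl fun ψ _ => ?_
  ring

/-- **The inequality.** -/
theorem card_le_sq (hp : p.Prime) (π : N →* Q) (hπ : Function.Surjective π) (hidx : ¬ p ∣ N.index)
    (hQ : ∀ ψ : IrrCharacter Q, ¬ p ∣ charDegree (ψ : Q → ℂ)) : Nat.card Q ≤ sq G p := by
  have h1 : Nat.card Q ≤ ∑ ψ : IrrCharacter Q, charDegree (ψ : Q → ℂ) *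
      ∑ χ ∈ odd G p, charDegree (χ : G → ℂ) * M π hπ χ ψ := by
    rw [← sum_charDegree_sq (G := Q)]
    refine Finset.sum_le_sum fun ψ _ => ?_
    rw [pow_two]
    exact Nat.mul_le_mul_left _ (le_sum_M p hp π hπ hidx ψ (hQ ψ))
  rw [sum_swap] at h1
  refine le_trans h1 ?_
  unfold sq
  refine Finset.sum_le_sum fun χ _ => ?_
  rw [pow_two]
  exact Nat.mul_le_mul_left _ (sum_M_le π hπ χ)

/-- **Equality**, first half. -/
theorem sum_M_eq (hp : p.Prime) (π : N →* Q) (hπ : Function.Surjective π) (hidx : ¬ p ∣ N.index)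
    (hQ : ∀ ψ : IrrCharacter Q, ¬ p ∣ charDegree (ψ : Q → ℂ)) (heq : sq G p ≤ Nat.card Q)
    (ψ : IrrCharacter Q) :
    ∑ χ ∈ odd G p, charDegree (χ : G → ℂ) * M π hπ χ ψ = charDegree (ψ : Q → ℂ) := by
  have h1 : ∑ ψ : IrrCharacter Q, charDegree (ψ : Q → ℂ) ^ 2 = ∑ ψ : IrrCharacter Q,
      charDegree (ψ : Q → ℂ) * ∑ χ ∈ odd G p, charDegree (χ : G → ℂ) * M π hπ χ ψ := by
    refine le_antisymm ?_ ?_
    · refine Finset.sum_le_sum fun ψ _ => ?_
      rw [pow_two]
      exact Nat.mul_le_mul_left _ (le_sum_M p hp π hπ hidx ψ (hQ ψ))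
    · rw [sum_charDegree_sq, sum_swap]
      refine le_trans ?_ heq
      unfold sq
      refine Finset.sum_le_sum fun χ _ => ?_
      rw [pow_two]
      exact Nat.mul_le_mul_left _ (sum_M_le π hπ χ)
  have h2 := (Finset.sum_eq_sum_iff_of_le (fun ψ _ => by
    rw [pow_two]
    exact Nat.mul_le_mul_left _ (le_sum_M p hp π hπ hidx ψ (hQ ψ)))).mp h1 ψ (Finset.mem_univ _)
  rw [pow_two] at h2
  exact (Nat.eq_of_mul_eq_mul_left (charDegree_pos ψ.2) h2).symm

/-- **Equality**, second half. -/
theorem sum_M_eq' (hp : p.Prime) (π : N →* Q) (hπ : Function.Surjective π) (hidx : ¬ p ∣ N.index)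
    (hQ : ∀ ψ : IrrCharacter Q, ¬ p ∣ charDegree (ψ : Q → ℂ)) (heq : sq G p ≤ Nat.card Q)
    (χ : IrrCharacter G) (hχ : χ ∈ odd G p) :
    ∑ ψ : IrrCharacter Q, M π hπ χ ψ * charDegree (ψ : Q → ℂ) = charDegree (χ : G → ℂ) := by
  have h1 : ∑ χ ∈ odd G p, charDegree (χ : G → ℂ) * ∑ ψ : IrrCharacter Q, M π hπ χ ψ *
      charDegree (ψ : Q → ℂ) = ∑ χ ∈ odd G p, charDegree (χ : G → ℂ) * charDegree (χ : G → ℂ) := by
    refine le_antisymm ?_ ?_
    · exact Finset.sum_le_sum fun χ _ => Nat.mul_le_mul_left _ (sum_M_le π hπ χ)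
    · rw [← sum_swap]
      refine le_trans ?_ (le_trans (le_of_eq (sum_charDegree_sq (G := Q)).symm)
        (Finset.sum_le_sum fun ψ _ => ?_))
      · refine le_trans ?_ heq
        exact le_of_eq (Finset.sum_congr rfl fun χ _ => (pow_two _).symm)
      · rw [pow_two]
        exact Nat.mul_le_mul_left _ (le_sum_M p hp π hπ hidx ψ (hQ ψ))
  have h2 := (Finset.sum_eq_sum_iff_of_le (fun χ _ => Nat.mul_le_mul_left _ (sum_M_le π hπ χ))).mp
    h1 χ hχ
  exact Nat.eq_of_mul_eq_mul_left (charDegree_pos χ.2) h2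

/-- **Equality**: each character of `Q` is the restriction of a `p'`-degree character of `G`. -/
theorem exists_extension (hp : p.Prime) (π : N →* Q) (hπ : Function.Surjective π)
    (hidx : ¬ p ∣ N.index)
    (hQ : ∀ ψ : IrrCharacter Q, ¬ p ∣ charDegree (ψ : Q → ℂ)) (heq : sq G p ≤ Nat.card Q)
    (ψ : IrrCharacter Q) :
    ∃ χ ∈ odd G p, ∀ n : N, (χ : G → ℂ) n = (ψ : Q → ℂ) (π n) := by
  have h := sum_M_eq p hp π hπ hidx hQ heq ψ
  have hpos : 0 < charDegree (ψ : Q → ℂ) := charDegree_pos ψ.2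
  have hex : ∃ χ ∈ odd G p, charDegree (χ : G → ℂ) * M π hπ χ ψ ≠ 0 := by
    by_contra hcon
    push Not at hcon
    rw [Finset.sum_eq_zero hcon] at h
    omega
  obtain ⟨χ, hχ, hne⟩ := hex
  have hM : M π hπ χ ψ ≠ 0 := right_ne_zero_of_mul hne
  let β : IrrCharacter N := infl π hπ ψ
  have hβc : IsCharacter N (β : N → ℂ) := isCharacter_of_isIrrCharacter β.2
  have hχc := isCharacter_of_isIrrCharacter χ.2
  have hne2 : classInner (res N (χ : G → ℂ)) (β : N → ℂ) ≠ 0 :=
    (mult_ne_zero_iff (isCharacter_res χ) hβc).mp hM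
  have hle : charDegree (χ : G → ℂ) ≤ charDegree (ψ : Q → ℂ) := by
    rw [← h]
    refine le_trans (Nat.le_mul_of_pos_right _ (Nat.pos_of_ne_zero hM)) ?_
    exact Finset.single_le_sum
      (f := fun χ => charDegree ((χ : IrrCharacter G) : G → ℂ) * M π hπ χ ψ)
      (fun _ _ => Nat.zero_le _) hχ
  have heqf := eq_of_constituent_of_deg_le (isCharacter_res χ) β.2 hne2
      (a := charDegree (χ : G → ℂ)) (b := charDegree (ψ : Q → ℂ))
      (charDegree_natCast hχc).symm
      (by rw [← charDegree_infl π hπ ψ]; exact (charDegree_natCast hβc).symm) hle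
  exact ⟨χ, hχ, fun n => congrFun heqf n⟩

/-- If all characters of `Q` are linear and we have equality, all `p'`-degree characters of `G` are
linear. -/
theorem charDegree_eq_one_of_linear (hp : p.Prime) (π : N →* Q) (hπ : Function.Surjective π)
    (hidx : ¬ p ∣ N.index)
    (hQ : ∀ ψ : IrrCharacter Q, charDegree (ψ : Q → ℂ) = 1) (heq : sq G p ≤ Nat.card Q)
    (χ : IrrCharacter G) (hχ : χ ∈ odd G p) : charDegree (χ : G → ℂ) = 1 := by
  have hQ' : ∀ ψ : IrrCharacter Q, ¬ p ∣ charDegree (ψ : Q → ℂ) := by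
    intro ψ
    rw [hQ ψ]
    exact fun h => hp.one_lt.ne' (Nat.dvd_one.mp h)
  have h1 := sum_M_eq' p hp π hπ hidx hQ' heq χ hχ
  have hpos : 0 < charDegree (χ : G → ℂ) := charDegree_pos χ.2
  have hex : ∃ ψ : IrrCharacter Q, M π hπ χ ψ * charDegree (ψ : Q → ℂ) ≠ 0 := by
    by_contra hcon
    push Not at hcon
    rw [Finset.sum_eq_zero fun ψ _ => hcon ψ] at h1
    omega
  obtain ⟨ψ, hψ⟩ := hex
  have hM : M π hπ χ ψ ≠ 0 := left_ne_zero_of_mul hψ
  have h2 := sum_M_eq p hp π hπ hidx hQ' heq ψ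
  rw [hQ ψ] at h2
  have h3 : charDegree (χ : G → ℂ) * M π hπ χ ψ ≤ 1 := by
    rw [← h2]
    exact Finset.single_le_sum
      (f := fun χ => charDegree ((χ : IrrCharacter G) : G → ℂ) * M π hπ χ ψ)
      (fun _ _ => Nat.zero_le _) hχ
  have h4 : charDegree (χ : G → ℂ) ≤ charDegree (χ : G → ℂ) * M π hπ χ ψ :=
    Nat.le_mul_of_pos_right _ (Nat.pos_of_ne_zero hM)
  omega

end Main

section Normal

variable {G : Type u} [Group G] [Fintype G] (p : ℕ) {H : Subgroup G} [Fintype H]

/-- Passing from `G` to a normal subgroup of index prime to `p`. -/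
theorem index_mul_sq_le (hp : p.Prime) (hH : H.Normal) (hidx : ¬ p ∣ H.index) :
    H.index * sq H p ≤ sq G p := by
  classical
  -- for an irreducible `η` of `H` of `p'`-degree
  have key : ∀ η : IrrCharacter H, η ∈ odd H p →
      H.index * charDegree (η : H → ℂ) =
        ∑ χ ∈ odd G p, mult (res H (χ : G → ℂ)) (η : H → ℂ) * charDegree (χ : G → ℂ) := by
    intro η hη
    have hηc := isCharacter_of_isIrrCharacter η.2
    have hind : IsCharacter G (indFun H (η : H → ℂ)) := isCharacter_indFun H hηc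
    have hdeg : charDegree (indFun H (η : H → ℂ)) = H.index * charDegree (η : H → ℂ) := by
      apply charDegree_eq_of_eq_natCast
      rw [indFun_one, ← charDegree_natCast hηc]
      push_cast
      rfl
    rw [← hdeg, deg_eq_sum_mult hind]
    have hmult : ∀ χ : IrrCharacter G, mult (indFun H (η : H → ℂ)) (χ : G → ℂ) =
        mult (res H (χ : G → ℂ)) (η : H → ℂ) := by
      intro χ
      have hχc := isCharacter_of_isIrrCharacter χ.2
      have h1 := mult_coe hind hχc
      have h2 := mult_coe (isCharacter_res (N := H) χ) hηc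
      rw [classInner_indFun_left H _ _ (isClassFunction_of_isCharacter hχc)] at h1
      have h3 : classInner (res H (χ : G → ℂ)) (η : H → ℂ) =
          conj (classInner (η : H → ℂ) (res H (χ : G → ℂ))) := by
        rw [← classInner_conj]
      have h4 : ((mult (indFun H (η : H → ℂ)) (χ : G → ℂ) : ℕ) : ℂ) =
          (mult (res H (χ : G → ℂ)) (η : H → ℂ) : ℕ) := by
        rw [h1, h2, h3, ← h1]
        simp
      exact_mod_cast h4
    simp only [hmult]
    symm
    refine Finset.sum_subset (Finset.subset_univ _) fun χ _ hχ => ?_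
    have hχd : p ∣ charDegree (χ : G → ℂ) := by
      by_contra h
      exact hχ ((mem_odd p).mpr h)
    by_contra hne
    have hm : mult (res H (χ : G → ℂ)) (η : H → ℂ) ≠ 0 := left_ne_zero_of_mul hne
    have hcon := (mult_ne_zero_iff (isCharacter_res (N := H) χ) hηc).mp hm
    obtain ⟨e, t, he, hdvd⟩ := Cfsg.Agent.Lib.Char.DegDvd.dvd_index_of_constituent hH η.2 χ.2 hcon
    rw [← charDegree_natCast hηc, ← charDegree_natCast (isCharacter_of_isIrrCharacter χ.2)] at he
    have he' : charDegree (χ : G → ℂ) = e * t * charDegree (η : H → ℂ) := by exact_mod_cast he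
    rw [he'] at hχd
    rcases (Nat.Prime.dvd_mul hp).mp hχd with h | h
    · exact hidx (h.trans hdvd)
    · exact (mem_odd p).mp hη h
  -- summing up
  have h1 : H.index * sq H p = ∑ η ∈ odd H p, charDegree (η : H → ℂ) *
      ∑ χ ∈ odd G p, mult (res H (χ : G → ℂ)) (η : H → ℂ) * charDegree (χ : G → ℂ) := by
    unfold sq
    rw [Finset.mul_sum]
    refine Finset.sum_congr rfl fun η hη => ?_
    rw [← key η hη]
    ring
  rw [h1]
  have h2 : ∑ η ∈ odd H p, charDegree (η : H → ℂ) *
      ∑ χ ∈ odd G p, mult (res H (χ : G → ℂ)) (η : H → ℂ) * charDegree (χ : G → ℂ) =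
      ∑ χ ∈ odd G p, charDegree (χ : G → ℂ) * ∑ η ∈ odd H p,
        mult (res H (χ : G → ℂ)) (η : H → ℂ) * charDegree (η : H → ℂ) := by
    simp only [Finset.mul_sum]
    rw [Finset.sum_comm]
    refine Finset.sum_congr rfl fun χ _ => Finset.sum_congr rfl fun ψ _ => ?_
    ring
  rw [h2]
  unfold sq
  refine Finset.sum_le_sum fun χ _ => ?_
  rw [pow_two]
  refine Nat.mul_le_mul_left _ ?_
  have h3 : charDegree (χ : G → ℂ) = charDegree (res H (χ : G → ℂ)) := rfl
  rw [h3, deg_eq_sum_mult (isCharacter_res (N := H) χ)]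
  exact Finset.sum_le_sum_of_subset (Finset.subset_univ _)

end Normal

end Cfsg.Agent.Lib.OddSq
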